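import Groth.Agent.SMT.DetRing
import Mathlib.RingTheory.MvPolynomial.Homogeneous
import Mathlib.RingTheory.MvPolynomial.EulerIdentity
import Mathlib.RingTheory.KrullDimension.Polynomial
import Mathlib.Data.Finsupp.Antidiagonal

/-! General complete intersections: the Jacobian has full rank at every point of the zero set. -/

set_option autoImplicit false

noncomputable section

namespace Groth.Agent.CIBertini

open MvPolynomial

universe u

variable {k : Type u} [Field k] {n r : ℕ}

/-- An injective map to an affine algebra does not raise the dimension. -/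
theorem ringKrullDim_le_of_injective {A B : Type u} [CommRing A] [IsDomain A] [Algebra k A] [Algebra.FiniteType k A]
    [CommRing B] [Algebra k B] [Algebra.FiniteType k B] (f : A →ₐ[k] B) (hf : Function.Injective f) :
    ringKrullDim A ≤ ringKrullDim B := by
  obtain ⟨q, hq, hqf⟩ := Ideal.exists_comap_eq_of_mem_minimalPrimes_of_injective (f := f.toRingHom) hf (⊥ : Ideal A)
    (by rw [IsDomain.minimalPrimes_eq_singleton_bot]; rfl)
  let g : A →ₐ[k] B ⧸ q := (Ideal.Quotient.mkₐ k q).comp f
  have hg : Function.Injective g := (injective_iff_map_eq_zero g).2 fun x hx => by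
    have : x ∈ q.comap f.toRingHom := Ideal.mem_comap.2 (Ideal.Quotient.eq_zero_iff_mem.1 (show Ideal.Quotient.mk q (f x) = 0 from hx))
    rwa [hqf, Ideal.mem_bot] at this
  haveI : Algebra.FiniteType k (B ⧸ q) := Algebra.FiniteType.of_surjective (Ideal.Quotient.mkₐ k q) Ideal.Quotient.mk_surjective
  obtain ⟨a, ha, hadim⟩ := DimFormula.exists_trdeg_eq_ringKrullDim k A
  obtain ⟨b, hb, hbdim⟩ := DimFormula.exists_trdeg_eq_ringKrullDim k (B ⧸ q)
  have hle := trdeg_le_of_injective g hg
  rw [ha, hb, Nat.cast_le] at hle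
  refine le_trans ?_ (ringKrullDim_le_of_surjective (Ideal.Quotient.mk q) Ideal.Quotient.mk_surjective)
  rw [hadim, hbdim]
  exact_mod_cast hle

/-- Monomials of degree `e`. -/
abbrev Mon (n e : ℕ) : Type := ↥((Finset.univ : Finset (Fin (n + 1))).finsuppAntidiag e)

/-- The coefficients of `r` forms of degrees `d`. -/
abbrev Coef (n : ℕ) (d : Fin r → ℕ) : Type := Σ i : Fin r, Mon n (d i)

/-- The forms with the given coefficients. -/
def form (n : ℕ) (d : Fin r → ℕ) (c : Coef n d → k) (i : Fin r) : MvPolynomial (Fin (n + 1)) k :=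
  ∑ a : Mon n (d i), monomial (a.1) (c ⟨i, a⟩)

theorem sum_eq_of_mem {e : ℕ} (a : Mon n e) : ∑ j, a.1 j = e := (Finset.mem_finsuppAntidiag.1 a.2).1

theorem form_isHomogeneous (d : Fin r → ℕ) (c : Coef n d → k) (i : Fin r) : (form n d c i).IsHomogeneous (d i) := by
  refine IsHomogeneous.sum _ _ _ fun a _ => isHomogeneous_monomial _ ?_
  rw [Finsupp.degree_eq_sum]
  exact sum_eq_of_mem a

/-- The Jacobian has full rank at the zeros other than the origin. -/
def Nonsing (f : Fin r → MvPolynomial (Fin (n + 1)) k) : Prop :=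
  ∀ x : Fin (n + 1) → k, x ≠ 0 → (∀ i, eval x (f i) = 0) →
    ∃ cols : Fin r → Fin (n + 1), (Matrix.of fun i l => eval x (pderiv (cols l) (f i))).det ≠ 0

theorem eval_smul_of_isHomogeneous {f : MvPolynomial (Fin (n + 1)) k} {e : ℕ} (hf : f.IsHomogeneous e) (t : k)
    (x : Fin (n + 1) → k) : eval (t • x) f = t ^ e * eval x f := by
  rw [eval_eq, eval_eq, Finset.mul_sum]
  refine Finset.sum_congr rfl fun s hs => ?_
  simp only [Pi.smul_apply, smul_eq_mul, mul_pow, Finset.prod_mul_distrib, Finset.prod_pow_eq_pow_sum]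
  rw [← hf.degree_eq_sum_deg_support hs]
  ring

section Chart

variable (d : Fin r → ℕ) (hd : ∀ i, 0 < d i) (j₀ : Fin (n + 1))

/-- The monomial `x_{j₀}^d`. -/
def e0 (i : Fin r) : Mon n (d i) :=
  ⟨Finsupp.single j₀ (d i), Finset.mem_finsuppAntidiag.2 ⟨by simp, Finset.subset_univ _⟩⟩

include hd in
theorem e1_mem (i : Fin r) (l : Fin n) :
    Finsupp.single (j₀.succAbove l) 1 + Finsupp.single j₀ (d i - 1) ∈
      (Finset.univ : Finset (Fin (n + 1))).finsuppAntidiag (d i) := by
  refine Finset.mem_finsuppAntidiag.2 ⟨?_, Finset.subset_univ _⟩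
  have := hd i
  simp only [Finsupp.coe_add, Pi.add_apply, Finset.sum_add_distrib, Finsupp.univ_sum_single_apply]
  omega

/-- The monomials `x_j x_{j₀}^(d-1)`. -/
def e1 (i : Fin r) (l : Fin n) : Mon n (d i) :=
  ⟨Finsupp.single (j₀.succAbove l) 1 + Finsupp.single j₀ (d i - 1), e1_mem d hd j₀ i l⟩

theorem e1_apply_col (i : Fin r) (l l' : Fin n) :
    (e1 d hd j₀ i l).1 (j₀.succAbove l') = if l = l' then 1 else 0 := by
  simp only [e1, Finsupp.coe_add, Pi.add_apply]
  rw [Finsupp.single_eq_of_ne (Fin.succAbove_ne j₀ l'), add_zero]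
  by_cases h : l = l'
  · subst h; rw [Finsupp.single_eq_same, if_pos rfl]
  · rw [Finsupp.single_eq_of_ne (fun e => h (Fin.succAbove_right_injective e).symm), if_neg h]

theorem e0_apply_col (i : Fin r) (l : Fin n) : (e0 d j₀ i).1 (j₀.succAbove l) = 0 :=
  Finsupp.single_eq_of_ne (Fin.succAbove_ne j₀ l)

/-- The other monomials. -/
abbrev Rest (i : Fin r) : Type := {a : Mon n (d i) // a ≠ e0 d j₀ i ∧ ∀ l, a ≠ e1 d hd j₀ i l}

open scoped Classical in
theorem sum_split {M : Type*} [AddCommMonoid M] (i : Fin r) (φ : Mon n (d i) → M) :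
    ∑ a, φ a = φ (e0 d j₀ i) + ∑ l, φ (e1 d hd j₀ i l) + ∑ a : Rest d hd j₀ i, φ a.1 := by
  let g : Option (Fin n) → Mon n (d i) := fun o => o.elim (e0 d j₀ i) (e1 d hd j₀ i)
  have hg : Function.Injective g := by
    intro a b h
    rcases a with _ | a <;> rcases b with _ | b
    · rfl
    · have := congrArg (fun z : Mon n (d i) => z.1 (j₀.succAbove b)) h
      simp only [g, Option.elim, e0_apply_col, e1_apply_col, if_true, zero_ne_one] at this
    · have := congrArg (fun z : Mon n (d i) => z.1 (j₀.succAbove a)) h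
      simp only [g, Option.elim, e0_apply_col, e1_apply_col, if_true, one_ne_zero] at this
    · have := congrArg (fun z : Mon n (d i) => z.1 (j₀.succAbove b)) h
      simp only [g, Option.elim, e1_apply_col, if_true] at this
      by_contra hne
      rw [if_neg (fun e => hne (by rw [e]))] at this
      exact zero_ne_one this
  rw [← Finset.sum_add_sum_compl (Finset.univ.image g), Finset.sum_image hg.injOn, Fintype.sum_option]
  congr 1
  refine Finset.sum_subtype _ (fun a => ?_) φ
  simp only [Finset.mem_compl, Finset.mem_image, Finset.mem_univ, true_and, not_exists, Option.forall, g, Option.elim]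
  exact and_congr ⟨fun h e => h e.symm, fun h e => h e.symm⟩ (forall_congr' fun l => ⟨fun h e => h e.symm, fun h e => h e.symm⟩)

open scoped Classical in
theorem card_coef : Fintype.card (Coef n d) = r + r * n + Fintype.card (Σ i, Rest d hd j₀ i) := by
  have h : ∀ i, Fintype.card (Mon n (d i)) = 1 + n + Fintype.card (Rest d hd j₀ i) := fun i => by
    have := sum_split d hd j₀ i (fun _ => 1)
    simpa using this
  rw [Fintype.card_sigma, Fintype.card_sigma, Finset.sum_congr rfl (fun i _ => h i)]
  simp [Finset.sum_add_distrib, mul_comm]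
  ring

/-- Rank deficient matrices. -/
abbrev DetQuot (k : Type u) [Field k] (r n : ℕ) : Type u :=
  MvPolynomial (Fin r × Fin n) k ⧸ CAlgX.minorIdeal (W4bk4grassmannian.genMatrix k r n) r

open scoped Classical in
include hd in
/-- Singular systems with a singular point off `x_{j₀} = 0` lie on a hypersurface. -/
theorem exists_chart_bound [Infinite k] (hrn : r ≤ n) :
    ∃ g : MvPolynomial (Coef n d) k, g ≠ 0 ∧ ∀ (c : Coef n d → k) (x : Fin (n + 1) → k), x j₀ = 1 →
      (∀ i, eval x (form n d c i) = 0) →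
      (∀ cols : Fin r → Fin n, (Matrix.of fun i l => eval x (pderiv (j₀.succAbove (cols l)) (form n d c i))).det = 0) →
      eval c g = 0 := by
  rcases Nat.eq_zero_or_pos r with rfl | hr
  · refine ⟨1, one_ne_zero, fun c x _ _ h => absurd (h fun l => l.elim0) (by simp)⟩
  let D := DetQuot k r n
  obtain ⟨hDdom, -, -, hDdim⟩ := SMT.det_ring (K := k) r n r (hr.trans_le hrn) hr le_rfl hrn
  haveI := hDdom
  let R := Σ i, Rest d hd j₀ i
  let B := MvPolynomial (Fin n ⊕ R) D
  let J : Fin r → Fin n → B := fun i l => C (Ideal.Quotient.mk _ (X (i, l)))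
  let xB : Fin (n + 1) → B := Fin.insertNth j₀ 1 fun l => X (Sum.inl l)
  let cR : (i : Fin r) → Rest d hd j₀ i → B := fun i a => X (Sum.inr ⟨i, a⟩)
  let mon : (Fin (n + 1) →₀ ℕ) → B := fun s => s.prod fun j e => xB j ^ e
  let c1 : Fin r → Fin n → B := fun i l => J i l -
    ∑ a : Rest d hd j₀ i, cR i a * (a.1.1 (j₀.succAbove l) : B) * mon (a.1.1 - Finsupp.single (j₀.succAbove l) 1)
  let c0 : Fin r → B := fun i =>
    -((∑ l, c1 i l * mon (e1 d hd j₀ i l).1) + ∑ a : Rest d hd j₀ i, cR i a * mon a.1.1)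
  let cB : Coef n d → B := fun ia =>
    if ia.2 = e0 d j₀ ia.1 then c0 ia.1 else
      if h : ∃ l, ia.2 = e1 d hd j₀ ia.1 l then c1 ia.1 h.choose else
        if h' : ia.2 ≠ e0 d j₀ ia.1 ∧ ∀ l, ia.2 ≠ e1 d hd j₀ ia.1 l then cR ia.1 ⟨ia.2, h'⟩ else 0
  let ψ : MvPolynomial (Coef n d) k →ₐ[k] B := aeval cB
  have hnot : ¬ Function.Injective ψ := by
    intro hinj
    have h := ringKrullDim_le_of_injective ψ hinj
    rw [MvPolynomial.ringKrullDim_of_isNoetherianRing, MvPolynomial.ringKrullDim_of_isNoetherianRing,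
      ringKrullDim_eq_zero_of_field, hDdim] at h
    simp only [Nat.card_eq_fintype_card, Fintype.card_sum, Fintype.card_fin, card_coef d hd j₀, zero_add] at h
    norm_cast at h
    have h' : r + r * n + Fintype.card R ≤ (r - 1) * (r + n - r + 1) + (n + Fintype.card R) := by exact_mod_cast h
    rw [show r + n - r = n by omega] at h'
    obtain ⟨r', rfl⟩ : ∃ r', r = r' + 1 := ⟨r - 1, by omega⟩
    simp only [Nat.add_sub_cancel] at h'
    nlinarith [h']
  obtain ⟨g, hg, hg0⟩ : ∃ g, ψ g = 0 ∧ g ≠ 0 := by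
    by_contra hh
    push Not at hh
    exact hnot ((injective_iff_map_eq_zero ψ).2 hh)
  refine ⟨g, hg0, fun c x hx hzero hdet => ?_⟩
  let M : Matrix (Fin r) (Fin n) k := Matrix.of fun i l => eval x (pderiv (j₀.succAbove l) (form n d c i))
  have hle : CAlgX.minorIdeal (W4bk4grassmannian.genMatrix k r n) r ≤
      RingHom.ker (eval fun il : Fin r × Fin n => M il.1 il.2) := by
    rw [CAlgX.minorIdeal, Ideal.span_le]
    rintro _ ⟨⟨rows, cols⟩, rfl⟩
    rw [SetLike.mem_coe, RingHom.mem_ker, RingHom.map_det]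
    have e : (eval fun il : Fin r × Fin n => M il.1 il.2).mapMatrix
        ((W4bk4grassmannian.genMatrix k r n).submatrix rows cols) = (M.submatrix id cols).submatrix rows id := by
      ext i l
      simp [W4bk4grassmannian.genMatrix]
    rw [e]
    by_cases hinj : Function.Injective rows
    · let σ : Equiv.Perm (Fin r) := Equiv.ofBijective rows (Finite.injective_iff_bijective.1 hinj)
      show ((M.submatrix id cols).submatrix σ id).det = 0
      rw [Matrix.det_permute, show (M.submatrix id cols).det = 0 from hdet cols, mul_zero]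
    · simp only [Function.Injective, not_forall] at hinj
      obtain ⟨i, i', hii, hne⟩ := hinj
      exact Matrix.det_zero_of_row_eq hne (by ext l; simp [hii])
  let δ : D →+* k := Ideal.Quotient.lift _ (eval fun il : Fin r × Fin n => M il.1 il.2) hle
  let β : B →+* k := eval₂Hom δ (Sum.elim (fun l => x (j₀.succAbove l)) fun ia => c ⟨ia.1, ia.2.1⟩)
  have hβJ : ∀ i l, β (J i l) = M i l := fun i l => by
    show eval₂Hom δ _ (C _) = _
    rw [eval₂Hom_C]
    exact (Ideal.Quotient.lift_mk _ _ _).trans (eval_X _)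
  have hβx : ∀ j, β (xB j) = x j := by
    intro j
    induction j using Fin.succAboveCases j₀ with
    | x => simp only [xB, Fin.insertNth_apply_same, map_one, hx]
    | p l =>
      simp only [xB, Fin.insertNth_apply_succAbove]
      exact eval₂Hom_X' _ _ _
  have hβR : ∀ i a, β (cR i a) = c ⟨i, a.1⟩ := fun i a => by
    exact eval₂Hom_X' _ _ _
  have hβmon : ∀ s, β (mon s) = s.prod fun j e => x j ^ e := fun s => by
    simp only [mon, map_finsuppProd, map_pow, hβx]
  have hmonj₀ : ∀ e : ℕ, (Finsupp.single j₀ e).prod (fun j e => x j ^ e) = 1 := fun e => by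
    rw [Finsupp.prod_single_index (by simp), hx, one_pow]
  have hM : ∀ i l, M i l = c ⟨i, e1 d hd j₀ i l⟩ + ∑ a : Rest d hd j₀ i, c ⟨i, a.1⟩ *
      (a.1.1 (j₀.succAbove l) : k) * (a.1.1 - Finsupp.single (j₀.succAbove l) 1).prod (fun j e => x j ^ e) := by
    intro i l
    simp only [M, Matrix.of_apply, form, map_sum, pderiv_monomial, eval_monomial]
    rw [sum_split d hd j₀ i, e0_apply_col, Nat.cast_zero, mul_zero, zero_mul, zero_add]
    congr 1
    rw [Finset.sum_eq_single l]
    · rw [e1_apply_col, if_pos rfl, Nat.cast_one, mul_one]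
      conv_lhs => arg 2; rw [show (e1 d hd j₀ i l).1 - Finsupp.single (j₀.succAbove l) 1 = Finsupp.single j₀ (d i - 1) by
        simp only [e1]; exact add_tsub_cancel_left _ _]
      rw [hmonj₀, mul_one]
    · intro l' _ hl'
      rw [e1_apply_col, if_neg hl', Nat.cast_zero, mul_zero, zero_mul]
    · intro h; exact absurd (Finset.mem_univ l) h
  have hc1 : ∀ i l, β (c1 i l) = c ⟨i, e1 d hd j₀ i l⟩ := by
    intro i l
    simp only [c1, map_sub, map_sum, map_mul, map_natCast, hβJ, hβR, hβmon]
    rw [hM i l]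
    ring
  have hc0 : ∀ i, β (c0 i) = c ⟨i, e0 d j₀ i⟩ := by
    intro i
    simp only [c0, map_neg, map_add, map_sum, map_mul, hc1, hβR, hβmon]
    have h := hzero i
    simp only [form, map_sum, eval_monomial] at h
    rw [sum_split d hd j₀ i, show ((e0 d j₀ i).1.prod fun j e => x j ^ e) = 1 from hmonj₀ _, mul_one] at h
    linear_combination -h
  have hc : ∀ ia, β (cB ia) = c ia := by
    rintro ⟨i, a⟩
    simp only [cB]
    split_ifs with h h1 h2
    · rw [hc0, h]
    · rw [hc1, ← h1.choose_spec]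
    · rw [hβR]
    · exact absurd ⟨h, fun l e => h1 ⟨l, e⟩⟩ h2
  have hcomp : β.comp ψ.toRingHom = eval c := by
    refine MvPolynomial.ringHom_ext (fun a => ?_) (fun ia => ?_)
    · simp only [RingHom.comp_apply, AlgHom.toRingHom_eq_coe, RingHom.coe_coe, ψ, aeval_C, eval_C]
      show eval₂Hom δ _ (C (algebraMap k D a)) = a
      rw [eval₂Hom_C]
      exact (Ideal.Quotient.lift_mk _ _ _).trans (eval_C _)
    · simp only [RingHom.comp_apply, AlgHom.toRingHom_eq_coe, RingHom.coe_coe, ψ, aeval_X, eval_X, hc]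
  rw [← hcomp, RingHom.comp_apply]
  show β (ψ g) = 0
  rw [hg, map_zero]

end Chart

include k in
/-- General forms are nonsingular. -/
theorem exists_bound [Infinite k] (d : Fin r → ℕ) (hd : ∀ i, 0 < d i) (hrn : r ≤ n) :
    ∃ g : MvPolynomial (Coef n d) k, g ≠ 0 ∧ ∀ c : Coef n d → k, eval c g ≠ 0 → Nonsing (form n d c) := by
  choose g hg0 hg using fun j₀ : Fin (n + 1) => exists_chart_bound (k := k) d hd j₀ hrn
  refine ⟨∏ j, g j, Finset.prod_ne_zero_iff.2 fun j _ => hg0 j, fun c hc x hx hzero => ?_⟩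
  obtain ⟨j₀, hj₀⟩ := Function.ne_iff.1 hx
  rw [map_prod, Finset.prod_ne_zero_iff] at hc
  by_contra hne
  push Not at hne
  let t := (x j₀)⁻¹
  have ht : t ≠ 0 := inv_ne_zero hj₀
  refine hc j₀ (Finset.mem_univ _) (hg j₀ c (t • x) (by show (x j₀)⁻¹ * x j₀ = 1; exact inv_mul_cancel₀ hj₀) (fun i => ?_) fun cols => ?_)
  · rw [eval_smul_of_isHomogeneous (form_isHomogeneous d c i), hzero i, mul_zero]
  · have e : (Matrix.of fun i l => eval (t • x) (pderiv (j₀.succAbove (cols l)) (form n d c i))) =
        Matrix.of fun i l => t ^ (d i - 1) * (Matrix.of fun i l => eval x (pderiv (j₀.succAbove (cols l)) (form n d c i))) i l := by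
      ext i l
      simp only [Matrix.of_apply]
      exact eval_smul_of_isHomogeneous (form_isHomogeneous d c i).pderiv t x
    rw [e, Matrix.det_mul_column, hne fun l => j₀.succAbove (cols l), mul_zero]

end Groth.Agent.CIBertini
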