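import Groth.Agent.SerreReg.Regular
import Mathlib.RingTheory.MvPolynomial.Basic
import Mathlib.Algebra.MvPolynomial.PDeriv
import Mathlib.LinearAlgebra.Matrix.ToLinearEquiv
import Mathlib.RingTheory.Localization.Ideal
import Mathlib.RingTheory.KrullDimension.Regular

/-! The Jacobian criterion for a complete intersection at a prime. -/

set_option autoImplicit false

noncomputable section

namespace Groth.Agent.CIBertini

open IsLocalRing MvPolynomial

universe u

/-- Localizing a quotient. -/
theorem nonempty_localQuot {S : Type u} [CommRing S] (I : Ideal S) (Q : Ideal (S ⧸ I)) [Q.IsPrime] :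
    Nonempty (Localization.AtPrime Q ≃+*
      Localization.AtPrime (Q.comap (Ideal.Quotient.mk I)) ⧸
        I.map (algebraMap S (Localization.AtPrime (Q.comap (Ideal.Quotient.mk I))))) := by
  let q := Q.comap (Ideal.Quotient.mk I)
  let T := Localization.AtPrime q ⧸ I.map (algebraMap S (Localization.AtPrime q))
  have hsub : Algebra.algebraMapSubmonoid (S ⧸ I) q.primeCompl = Q.primeCompl := by
    ext x
    obtain ⟨a, rfl⟩ := Ideal.Quotient.mk_surjective x
    constructor
    · rintro ⟨b, hb, hab⟩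
      rw [← hab]; exact hb
    · exact fun ha => ⟨a, ha, rfl⟩
  haveI : IsLocalization.AtPrime T Q := by
    show IsLocalization Q.primeCompl T
    rw [← hsub]
    infer_instance
  exact ⟨(IsLocalization.algEquiv Q.primeCompl (Localization.AtPrime Q) T).toRingEquiv⟩

/-- Cutting a regular quotient by one element. -/
theorem regular_step {R : Type u} [CommRing R] [IsLocalRing R] (J : Ideal R) [IsRegularLocalRing (R ⧸ J)] (y : R)
    (hy : y ∈ maximalIdeal R) (hy2 : y ∉ J ⊔ maximalIdeal R ^ 2) :
    IsRegularLocalRing (R ⧸ (J ⊔ Ideal.span {y})) ∧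
      ringKrullDim (R ⧸ (J ⊔ Ideal.span {y})) + 1 = ringKrullDim (R ⧸ J) := by
  haveI hloc : IsLocalHom (Ideal.Quotient.mk J) := IsLocalHom.of_surjective _ Ideal.Quotient.mk_surjective
  have hm : maximalIdeal (R ⧸ J) = (maximalIdeal R).map (Ideal.Quotient.mk J) := by
    refine le_antisymm (fun z hz => ?_) (Ideal.map_le_iff_le_comap.2 fun w hw => ?_)
    · obtain ⟨w, rfl⟩ := Ideal.Quotient.mk_surjective z
      exact Ideal.mem_map_of_mem _ fun hw => hz (hw.map _)
    · exact fun h => hw (hloc.map_nonunit w h)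
  have hx : Ideal.Quotient.mk J y ∈ maximalIdeal (R ⧸ J) := by rw [hm]; exact Ideal.mem_map_of_mem _ hy
  have hx2 : Ideal.Quotient.mk J y ∉ maximalIdeal (R ⧸ J) ^ 2 := by
    rw [hm, ← Ideal.map_pow, ← Ideal.mem_comap, Ideal.comap_map_of_surjective _ Ideal.Quotient.mk_surjective,
      ← RingHom.ker_eq_comap_bot, Ideal.mk_ker, sup_comm]
    exact hy2
  obtain ⟨hr', hsr⟩ := SerreReg.isRegularLocalRing_quot hx hx2
  let e : (R ⧸ J) ⧸ Ideal.span {Ideal.Quotient.mk J y} ≃+* R ⧸ (J ⊔ Ideal.span {y}) :=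
    (Ideal.quotEquivOfEq (by rw [Ideal.map_span, Set.image_singleton] :
      Ideal.span {Ideal.Quotient.mk J y} = (Ideal.span {y}).map (Ideal.Quotient.mk J))).trans
      (DoubleQuot.quotQuotEquivQuotSup J (Ideal.span {y}))
  refine ⟨IsRegularLocalRing.of_ringEquiv e, ?_⟩
  rw [← ringKrullDim_eq_of_ringEquiv e, ringKrullDim_quotient_span_singleton_succ_eq_ringKrullDim hsr hx]

variable {k : Type u} [Field k] {σ : Type} [Finite σ] {r : ℕ} (f : Fin r → MvPolynomial σ k)

/-- The ideal of the first `j` equations. -/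
def pre (j : ℕ) : Ideal (MvPolynomial σ k) := Ideal.span (f '' {i | (i : ℕ) < j})

theorem pre_eq_span_range : pre f r = Ideal.span (Set.range f) := by
  rw [pre, show {i : Fin r | (i : ℕ) < r} = Set.univ from Set.eq_univ_of_forall fun i => i.2, Set.image_univ]

theorem pre_succ {j : ℕ} (hj : j < r) : pre f (j + 1) = pre f j ⊔ Ideal.span {f ⟨j, hj⟩} := by
  rw [pre, pre, ← Ideal.span_union, ← Set.image_singleton, ← Set.image_union]
  congr 2
  ext i
  simp only [Set.mem_ofPred_eq, Set.union_singleton, Set.mem_insert_iff, Fin.ext_iff]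
  omega

theorem pre_zero : pre f 0 = ⊥ := by
  rw [pre, show {i : Fin r | (i : ℕ) < 0} = ∅ by ext i; simp, Set.image_empty, Ideal.span_empty]

/-- A full rank Jacobian gives independent differentials. -/
theorem indep_of_minor (q : Ideal (MvPolynomial σ k)) [q.IsPrime] (cols : Fin r → σ)
    (hdet : (Matrix.of fun i l => pderiv (cols l) (f i)).det ∉ q) (a : Fin r → MvPolynomial σ k)
    (h : ∀ col, ∑ i, a i * pderiv col (f i) ∈ q) : ∀ i, a i ∈ q := by
  let π := Ideal.Quotient.mk q
  have h0 : Matrix.vecMul (fun i => π (a i)) (π.mapMatrix (Matrix.of fun i l => pderiv (cols l) (f i))) = 0 := by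
    funext l
    have := Ideal.Quotient.eq_zero_iff_mem.2 (h (cols l))
    simpa [Matrix.vecMul, dotProduct, π] using this
  have hd : (π.mapMatrix (Matrix.of fun i l => pderiv (cols l) (f i))).det ≠ 0 := by
    rw [← RingHom.map_det]
    exact fun e => hdet (Ideal.Quotient.eq_zero_iff_mem.1 e)
  intro i
  exact Ideal.Quotient.eq_zero_iff_mem.1 (congrFun (Matrix.eq_zero_of_vecMul_eq_zero hd h0) i)

variable {f} (q : Ideal (MvPolynomial σ k)) [q.IsPrime]

theorem exists_diff_combination (hfq : ∀ i, f i ∈ q) {j : ℕ} {g : MvPolynomial σ k} (hg : g ∈ pre f j ⊔ q ^ 2) :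
    g ∈ q ∧ ∃ a : Fin r → MvPolynomial σ k, (∀ i : Fin r, j ≤ (i : ℕ) → a i ∈ q) ∧
      ∀ col, pderiv col g - ∑ i, a i * pderiv col (f i) ∈ q := by
  classical
  let W : Ideal (MvPolynomial σ k) :=
    { carrier := {g | g ∈ q ∧ ∃ a : Fin r → MvPolynomial σ k, (∀ i : Fin r, j ≤ (i : ℕ) → a i ∈ q) ∧
        ∀ col, pderiv col g - ∑ i, a i * pderiv col (f i) ∈ q}
      zero_mem' := ⟨zero_mem _, 0, fun i _ => zero_mem _, fun col => by simp⟩
      add_mem' := by
        rintro g h ⟨hg, a, ha, hga⟩ ⟨hh, b, hb, hhb⟩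
        refine ⟨add_mem hg hh, a + b, fun i hi => add_mem (ha i hi) (hb i hi), fun col => ?_⟩
        simp only [map_add, Pi.add_apply, add_mul, Finset.sum_add_distrib]
        rw [add_sub_add_comm]
        exact add_mem (hga col) (hhb col)
      smul_mem' := by
        rintro c g ⟨hg, a, ha, hga⟩
        refine ⟨Ideal.mul_mem_left _ _ hg, fun i => c * a i, fun i hi => Ideal.mul_mem_left _ _ (ha i hi), fun col => ?_⟩
        rw [smul_eq_mul, pderiv_mul, show ∑ i, c * a i * pderiv col (f i) = c * ∑ i, a i * pderiv col (f i) by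
          rw [Finset.mul_sum]; exact Finset.sum_congr rfl fun i _ => mul_assoc _ _ _]
        rw [add_sub_assoc, ← mul_sub]
        exact add_mem (Ideal.mul_mem_left _ _ hg) (Ideal.mul_mem_left _ _ (hga col)) }
  refine (sup_le ?_ ?_ : pre f j ⊔ q ^ 2 ≤ W) hg
  · rw [pre, Ideal.span_le]
    rintro _ ⟨i, hi, rfl⟩
    refine ⟨hfq i, Pi.single i 1, fun i' hi' => ?_, fun col => ?_⟩
    · rw [Pi.single_eq_of_ne (fun e => by subst e; exact absurd hi (not_lt.2 hi'))]
      exact zero_mem _
    · simp [Pi.single_apply]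
  · rw [pow_two, Ideal.mul_le]
    intro x hx y hy
    refine ⟨Ideal.mul_mem_left _ _ hy, 0, fun i _ => zero_mem _, fun col => ?_⟩
    simp only [Pi.zero_apply, zero_mul, Finset.sum_const_zero, sub_zero, pderiv_mul]
    exact add_mem (Ideal.mul_mem_left _ _ hy) (Ideal.mul_mem_right _ _ hx)

theorem localQuot_regular (hfq : ∀ i, f i ∈ q)
    (hind : ∀ a : Fin r → MvPolynomial σ k, (∀ col, ∑ i, a i * pderiv col (f i) ∈ q) → ∀ i, a i ∈ q) :
    ∀ j, j ≤ r → IsRegularLocalRing
        (Localization.AtPrime q ⧸ (pre f j).map (algebraMap (MvPolynomial σ k) (Localization.AtPrime q))) ∧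
      ringKrullDim (Localization.AtPrime q ⧸ (pre f j).map (algebraMap (MvPolynomial σ k) (Localization.AtPrime q))) + (j : WithBot ℕ∞) =
        ringKrullDim (Localization.AtPrime q) := by
  let R := Localization.AtPrime q
  let φ := algebraMap (MvPolynomial σ k) R
  haveI : IsRegularRing (MvPolynomial σ k) := inferInstance
  intro j
  induction j with
  | zero =>
    intro _
    have e : R ≃+* R ⧸ (pre f 0).map φ :=
      (RingEquiv.quotientBot R).symm.trans (Ideal.quotEquivOfEq (by rw [pre_zero, Ideal.map_bot]))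
    haveI : IsRegularLocalRing R := IsRegularRing.isRegularLocalRing_localization q
    refine ⟨IsRegularLocalRing.of_ringEquiv e, ?_⟩
    rw [← ringKrullDim_eq_of_ringEquiv e, Nat.cast_zero, add_zero]
  | succ j ih =>
    intro hj
    obtain ⟨hreg, hdim⟩ := ih (by omega)
    let i : Fin r := ⟨j, hj⟩
    let J : Ideal R := (pre f j).map φ
    haveI hRJ : IsRegularLocalRing (R ⧸ J) := hreg
    haveI : IsLocalRing (R ⧸ J) := hRJ.toIsLocalRing
    have hy2 : φ (f i) ∉ J ⊔ maximalIdeal R ^ 2 := by
      rw [← IsLocalization.AtPrime.map_eq_maximalIdeal q R, ← Ideal.map_pow, ← Ideal.map_sup,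
        IsLocalization.algebraMap_mem_map_algebraMap_iff q.primeCompl]
      rintro ⟨s, hs, hsf⟩
      obtain ⟨-, a, ha, hga⟩ := exists_diff_combination q hfq hsf
      have h := hind (a - Pi.single i s) (fun col => ?_) i
      · rw [Pi.sub_apply, Pi.single_eq_same] at h
        exact hs (by simpa using sub_mem (ha i le_rfl) h)
      · have := hga col
        rw [pderiv_mul] at this
        have h2 : pderiv col s * f i ∈ q := Ideal.mul_mem_left _ _ (hfq i)
        have h3 := sub_mem h2 this
        simp only [Pi.sub_apply, sub_mul, Finset.sum_sub_distrib, Pi.single_apply, ite_mul, zero_mul,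
          Finset.sum_ite_eq', Finset.mem_univ, if_true]
        convert h3 using 1
        ring
    obtain ⟨hr', hd'⟩ := regular_step J (φ (f i)) ((IsLocalization.AtPrime.to_map_mem_maximal_iff R q (f i)).2 (hfq i)) hy2
    have e2 : J ⊔ Ideal.span {φ (f i)} = (pre f (j + 1)).map φ := by
      rw [pre_succ f hj, Ideal.map_sup, Ideal.map_span, Set.image_singleton]
    rw [← e2, ← hdim, ← hd', Nat.cast_succ]
    exact ⟨hr', by ring⟩

end Groth.Agent.CIBertini
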