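import Groth.Agent.SMT.GradedGlue
import Groth.Agent.CIBertini.Generic
import Groth.Agent.CIBertini.Local
import Groth.Agent.GLinFree.Dim
import Groth.Agent.CMFlat.Quotient
import Groth.Agent.Catenary.SerreNormal
import Groth.Agent.SerreReg.CM
import Groth.Agent.RegLoc.Normal
import Mathlib.RingTheory.Nullstellensatz
import Mathlib.RingTheory.GradedAlgebra.Radical
import Mathlib.RingTheory.LocalProperties.Reduced
import Mathlib.RingTheory.Localization.LocalizationLocalization

/-! A nonsingular complete intersection cone of dimension at least two is a domain. -/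

set_option autoImplicit false

noncomputable section

namespace Groth.Agent.CIBertini

open IsLocalRing MvPolynomial

universe u

variable {k : Type u} [Field k] {n r : ℕ}

/-- The ideal of the vertex. -/
abbrev vtx (k : Type u) [Field k] (n : ℕ) : Ideal (MvPolynomial (Fin (n + 1)) k) :=
  RingHom.ker (constantCoeff : MvPolynomial (Fin (n + 1)) k →+* k)

instance : (vtx k n).IsMaximal :=
  RingHom.ker_isMaximal_of_surjective _ fun c => ⟨C c, constantCoeff_C _ c⟩

theorem vtx_le {q : Ideal (MvPolynomial (Fin (n + 1)) k)} (h : ∀ j, X j ∈ q) : vtx k n ≤ q := by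
  intro p hp
  have h1 : p ∈ Ideal.span (X '' (Set.univ : Set (Fin (n + 1)))) := by
    rw [mem_ideal_span_X_image]
    intro m hm
    by_contra hh
    push Not at hh
    rw [mem_support_iff, show m = 0 from Finsupp.ext fun i => hh i (Set.mem_univ i), ← constantCoeff_eq] at hm
    exact hm hp
  exact Ideal.span_le.2 (by rintro _ ⟨j, -, rfl⟩; exact h j) h1

theorem height_vtx : ((vtx k n).height : WithBot ℕ∞) = ((n + 1 : ℕ) : WithBot ℕ∞) := by
  rw [GLinFree.height_eq_ringKrullDim (K := k), MvPolynomial.ringKrullDim_of_isNoetherianRing,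
    ringKrullDim_eq_zero_of_field, Nat.card_fin, zero_add]

variable {f : Fin r → MvPolynomial (Fin (n + 1)) k}

theorem exists_minor_notMem [IsAlgClosed k] (hns : Nonsing f) (q : Ideal (MvPolynomial (Fin (n + 1)) k)) [q.IsPrime]
    (hfq : ∀ i, f i ∈ q) {j : Fin (n + 1)} (hj : X j ∉ q) :
    ∃ cols : Fin r → Fin (n + 1), (Matrix.of fun i l => pderiv (cols l) (f i)).det ∉ q := by
  have h1 : X j ∉ vanishingIdeal k (zeroLocus k q) := by
    rw [vanishingIdeal_zeroLocus_eq_radical, Ideal.IsPrime.radical inferInstance]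
    exact hj
  rw [mem_vanishingIdeal_iff] at h1
  push Not at h1
  obtain ⟨x, hx, hxj⟩ := h1
  rw [aeval_X] at hxj
  have hev : ∀ p ∈ q, eval x p = 0 := fun p hp => by
    have := hx p hp
    rwa [aeval_eq_eval] at this
  obtain ⟨cols, hc⟩ := hns x (fun h => hxj (by simp [h])) fun i => hev _ (hfq i)
  refine ⟨cols, fun hmem => hc ?_⟩
  have := hev _ hmem
  rw [RingHom.map_det] at this
  exact this

theorem regular_off_vertex [IsAlgClosed k] (hns : Nonsing f)
    (Q : Ideal (MvPolynomial (Fin (n + 1)) k ⧸ Ideal.span (Set.range f))) [Q.IsPrime]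
    (hQ : ∃ j, Ideal.Quotient.mk (Ideal.span (Set.range f)) (X j) ∉ Q) :
    IsRegularLocalRing (Localization.AtPrime Q) := by
  obtain ⟨j, hj⟩ := hQ
  let q := Q.comap (Ideal.Quotient.mk (Ideal.span (Set.range f)))
  have hfq : ∀ i, f i ∈ q := fun i => by
    rw [Ideal.mem_comap, Ideal.Quotient.eq_zero_iff_mem.2
      (show f i ∈ Ideal.span (Set.range f) from Ideal.subset_span ⟨i, rfl⟩)]
    exact zero_mem _
  obtain ⟨cols, hc⟩ := exists_minor_notMem hns q hfq (j := j) hj
  obtain ⟨h1, -⟩ := localQuot_regular q hfq (indep_of_minor f q cols hc) r le_rfl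
  obtain ⟨e⟩ := nonempty_localQuot (Ideal.span (Set.range f)) Q
  rw [pre_eq_span_range] at h1
  haveI := h1
  exact IsRegularLocalRing.of_ringEquiv e.symm

theorem le_height_of_minimal [IsAlgClosed k] (hrn : r ≤ n) (hns : Nonsing f)
    {P : Ideal (MvPolynomial (Fin (n + 1)) k)} (hP : P ∈ (Ideal.span (Set.range f)).minimalPrimes) :
    (r : ℕ∞) ≤ P.height := by
  haveI := hP.1.1
  have hle : P.height ≤ (r : ℕ∞) := by
    refine (Ideal.height_le_card_of_mem_minimalPrimes_span (Set.finite_range f) hP).trans ?_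
    have := Finite.card_range_le f
    rw [Nat.card_fin] at this
    rw [← Nat.card_coe_set_eq]
    exact_mod_cast this
  obtain ⟨j, hj⟩ : ∃ j, X j ∉ P := by
    by_contra hh
    push Not at hh
    have h1 := (Ideal.height_mono (vtx_le hh)).trans hle
    have h2 := height_vtx (k := k) (n := n)
    have h3 : (vtx k n).height = ((n + 1 : ℕ) : ℕ∞) := by exact_mod_cast h2
    rw [h3, Nat.cast_le] at h1
    omega
  have hfP : ∀ i, f i ∈ P := fun i => hP.1.2 (Ideal.subset_span ⟨i, rfl⟩)
  obtain ⟨cols, hc⟩ := exists_minor_notMem hns P hfP hj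
  obtain ⟨h1, h2⟩ := localQuot_regular P hfP (indep_of_minor f P cols hc) r le_rfl
  rw [IsLocalization.AtPrime.ringKrullDim_eq_height P] at h2
  haveI := h1
  obtain ⟨a, ha⟩ := SerreReg.exists_dim_nat
    (Localization.AtPrime P ⧸ (pre f r).map (algebraMap _ (Localization.AtPrime P)))
  rw [ha] at h2
  have h3 : ((a + r : ℕ) : ℕ∞) = P.height := by
    have : (((a + r : ℕ) : ℕ∞) : WithBot ℕ∞) = (P.height : WithBot ℕ∞) := by rw [← h2]; push_cast; rfl
    exact WithBot.coe_inj.1 this
  rw [← h3, Nat.cast_le]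
  omega

theorem height_span_eq [IsAlgClosed k] (hrn : r ≤ n) (hns : Nonsing f)
    (hne : Ideal.span (Set.range f) ≠ ⊤) : (Ideal.span (Set.range f)).height = r := by
  refine le_antisymm ?_ ?_
  · refine (Ideal.height_le_spanFinrank _ hne).trans ?_
    have h1 := Submodule.spanFinrank_span_le_ncard_of_finite (R := MvPolynomial (Fin (n + 1)) k) (Set.finite_range f)
    have h2 := Finite.card_range_le f
    rw [Nat.card_fin, Nat.card_coe_set_eq] at h2
    exact_mod_cast h1.trans h2
  · rw [Ideal.height_eq_inf_minimalPrimes]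
    exact le_iInf₂ fun P hP => le_height_of_minimal hrn hns hP

theorem exists_minimalPrime_dim {R : Type u} [CommRing R] [IsNoetherianRing R] (J : Ideal R) (hJ : J ≠ ⊤) :
    ∃ p ∈ J.minimalPrimes, ringKrullDim (R ⧸ J) ≤ ringKrullDim (R ⧸ p) := by
  classical
  have hfin := Ideal.finite_minimalPrimes_of_isNoetherianRing R J
  obtain ⟨p₀, hp₀⟩ := Ideal.nonempty_minimalPrimes (I := J) hJ
  obtain ⟨pm, hpm, hmax⟩ := hfin.toFinset.exists_max_image (fun p => ringKrullDim (R ⧸ p)) ⟨p₀, hfin.mem_toFinset.2 hp₀⟩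
  refine ⟨pm, hfin.mem_toFinset.1 hpm, SMT.ringKrullDim_le_of_cover fun P hP => ?_⟩
  obtain ⟨p, hp, hpP⟩ := Ideal.exists_minimalPrimes_le (I := J) (J := P.comap (Ideal.Quotient.mk J))
    (fun x hx => by rw [Ideal.mem_comap, Ideal.Quotient.eq_zero_iff_mem.2 hx]; exact zero_mem _)
  refine ⟨p.map (Ideal.Quotient.mk J), Ideal.map_le_iff_le_comap.2 hpP, ?_⟩
  rw [ringKrullDim_eq_of_ringEquiv (DoubleQuot.quotQuotEquivQuotOfLE hp.1.2)]
  exact hmax p (hfin.mem_toFinset.2 hp)

/-- In positive depth nothing is killed by powers of generators of the maximal ideal. -/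
theorem eq_zero_of_forall_pow {R : Type u} [CommRing R] [LocCoh.IsCohenMacaulayLocalRing R] {n : ℕ} (hn : 1 ≤ n)
    (hdim : ringKrullDim R = (n : WithBot ℕ∞)) {ι : Type} [Finite ι] (g : ι → R)
    (hg : maximalIdeal R ≤ (Ideal.span (Set.range g)).radical) (z : R) (hz : ∀ i, ∃ m : ℕ, g i ^ m * z = 0) : z = 0 := by
  obtain ⟨rs, hlen, hw, hm⟩ := SerreReg.exists_list_of_hasRegSeq n (CMFlat.hasRegSeq_of_cm hdim)
  obtain ⟨x, ys, rfl⟩ : ∃ x ys, rs = x :: ys := by
    cases rs with
    | nil => simp at hlen; omega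
    | cons x ys => exact ⟨x, ys, rfl⟩
  let K : Ideal R := LinearMap.ker (LinearMap.toSpanSingleton R R z)
  have h1 : Ideal.span (Set.range g) ≤ K.radical := Ideal.span_le.2 (by
    rintro _ ⟨i, rfl⟩
    obtain ⟨m, hm⟩ := hz i
    exact ⟨m, hm⟩)
  obtain ⟨N, hN⟩ := ((hg.trans ((Ideal.radical_mono h1).trans K.radical_idem.le)) (hm x List.mem_cons_self))
  have hreg := ((RingTheory.Sequence.isWeaklyRegular_cons_iff R x ys).1 hw).1.pow N
  exact hreg (show x ^ N • z = x ^ N • 0 by rw [smul_zero]; exact hN)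

/-- Cutting a Cohen–Macaulay ring down by the expected dimension. -/
theorem cm_quotient_of_dim {R : Type u} [CommRing R] [IsNoetherianRing R] [LocCoh.IsCohenMacaulayLocalRing R]
    (g : Fin r → R) (J : Ideal R) (hJspan : J = Ideal.span (Set.range g)) (hJm : J ≤ maximalIdeal R) {e : ℕ}
    (he : ringKrullDim (R ⧸ J) = (e : WithBot ℕ∞)) (hdimR : ringKrullDim R = ((r + e : ℕ) : WithBot ℕ∞)) :
    LocCoh.IsCohenMacaulayLocalRing (R ⧸ J) := by
  haveI : Nontrivial (R ⧸ J) := Ideal.Quotient.nontrivial_iff.2 fun h =>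
    (maximalIdeal.isMaximal R).ne_top (top_le_iff.1 (h ▸ hJm))
  haveI : IsLocalRing (R ⧸ J) := IsLocalRing.of_surjective' _ Ideal.Quotient.mk_surjective
  obtain ⟨b, hb⟩ := SerreReg.exists_sop (R ⧸ J) e he
  choose b' hb' using fun i => Ideal.Quotient.mk_surjective (b i)
  let a : Fin (r + e) → R := Fin.append g b'
  have hrange : Ideal.span (Set.range a) = J ⊔ Ideal.span (Set.range b') := by
    rw [show Set.range a = Set.range g ∪ Set.range b' by
      ext z
      constructor
      · rintro ⟨i, rfl⟩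
        induction i using Fin.addCases with
        | left i => exact Or.inl ⟨i, by simp [a]⟩
        | right i => exact Or.inr ⟨i, by simp [a]⟩
      · rintro (⟨i, rfl⟩ | ⟨i, rfl⟩)
        · exact ⟨Fin.castAdd e i, by simp [a]⟩
        · exact ⟨Fin.natAdd r i, by simp [a]⟩, Ideal.span_union, hJspan]
  have hsop : CMSop.IsSop a := by
    rw [CMSop.IsSop, hrange]
    have h1 : (Ideal.span (Set.range b)).comap (Ideal.Quotient.mk J) = J ⊔ Ideal.span (Set.range b') := by
      rw [show Set.range b = (Ideal.Quotient.mk J) '' Set.range b' by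
        rw [← Set.range_comp]; exact congrArg Set.range (funext fun i => (hb' i).symm),
        ← Ideal.map_span, Ideal.comap_map_of_surjective _ Ideal.Quotient.mk_surjective, ← RingHom.ker_eq_comap_bot,
        Ideal.mk_ker, sup_comm]
    rw [← h1, ← Ideal.comap_radical, hb]
    exact IsLocalRing.eq_maximalIdeal (Ideal.comap_isMaximal_of_surjective _ Ideal.Quotient.mk_surjective)
  have hreg := SerreReg.isWeaklyRegular_take_of_isSop hsop (CMFlat.hasRegSeq_of_cm (n := r + e) hdimR) r
  let xs : List R := List.ofFn g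
  have hxs : (List.ofFn a).take r = xs := by
    rw [List.ofFn_fin_append, List.take_left' (List.length_ofFn)]
  rw [hxs] at hreg
  have hJx : Ideal.ofList xs = J := by
    rw [hJspan, Ideal.ofList]
    congr 1
    ext z
    simp [xs, List.mem_ofFn']
  exact CMChart.isCohenMacaulayLocalRing_of_ringEquiv (Ideal.quotEquivOfEq hJx)
    (CMFlat.isCohenMacaulayLocalRing_quotient_ofList (List.replicate xs.length ⟨(), ()⟩) R xs (by simp) hreg
      (fun z hz => hJm (hJx ▸ Ideal.subset_span hz)))

theorem normal_localization {A : Type u} [CommRing A] (v : Ideal A) [v.IsPrime]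
    (Q : Ideal (Localization.AtPrime v)) [Q.IsPrime]
    (h1 : IsDomain (Localization.AtPrime (Q.comap (algebraMap A (Localization.AtPrime v)))))
    (h2 : IsIntegrallyClosed (Localization.AtPrime (Q.comap (algebraMap A (Localization.AtPrime v))))) :
    IsDomain (Localization.AtPrime Q) ∧ IsIntegrallyClosed (Localization.AtPrime Q) := by
  let e' : Localization.AtPrime (Q.comap (algebraMap A (Localization.AtPrime v))) ≃+* Localization.AtPrime Q :=
    (IsLocalization.algEquiv (Q.comap (algebraMap A (Localization.AtPrime v))).primeCompl _ _).toRingEquiv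
  exact ⟨e'.symm.toMulEquiv.isDomain _, IsIntegrallyClosed.of_equiv e'⟩

/-- The vertex is a normal point. -/
theorem vertex_cm (hfv : ∀ i, f i ∈ vtx k n)
    {I : Ideal (MvPolynomial (Fin (n + 1)) k)} (hI : I = Ideal.span (Set.range f)) (hht : (r : ℕ∞) ≤ I.height)
    (v : Ideal (MvPolynomial (Fin (n + 1)) k ⧸ I)) [v.IsPrime]
    (hv : v.comap (Ideal.Quotient.mk I) = vtx k n) :
    LocCoh.IsCohenMacaulayLocalRing (Localization.AtPrime v) ∧
      ∃ e : ℕ, ringKrullDim (Localization.AtPrime v) = (e : WithBot ℕ∞) ∧ e + r = n + 1 := by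
  classical
  let q := v.comap (Ideal.Quotient.mk I)
  haveI : q.IsPrime := Ideal.comap_isPrime _ _
  let R := Localization.AtPrime q
  let φ := algebraMap (MvPolynomial (Fin (n + 1)) k) R
  haveI : IsRegularLocalRing R := IsRegularRing.isRegularLocalRing_localization q
  haveI := CMFlat.isCohenMacaulayLocalRing_of_isRegularLocalRing R
  have hdimR : ringKrullDim R = ((n + 1 : ℕ) : WithBot ℕ∞) := by
    rw [IsLocalization.AtPrime.ringKrullDim_eq_height q, show q = vtx k n from hv, height_vtx]
  let J : Ideal R := I.map φ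
  have hJspan : J = Ideal.span (Set.range fun i => φ (f i)) := by
    show I.map φ = _
    rw [hI, Ideal.map_span, ← Set.range_comp]
    rfl
  have hJm : J ≤ maximalIdeal R := by
    refine Ideal.map_le_iff_le_comap.2 (hI ▸ Ideal.span_le.2 ?_)
    rintro _ ⟨i, rfl⟩
    exact (IsLocalization.AtPrime.to_map_mem_maximal_iff R q (f i)).2 (by rw [show q = vtx k n from hv]; exact hfv i)
  haveI : Nontrivial (R ⧸ J) := Ideal.Quotient.nontrivial_iff.2 fun h =>
    (maximalIdeal.isMaximal R).ne_top (top_le_iff.1 (h ▸ hJm))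
  haveI : IsLocalRing (R ⧸ J) := IsLocalRing.of_surjective' _ Ideal.Quotient.mk_surjective
  obtain ⟨e, he⟩ := SerreReg.exists_dim_nat (R ⧸ J)
  have hge : n + 1 ≤ e + r := by
    have h := ringKrullDim_le_ringKrullDim_quotient_add_card (R := R) (Finset.univ.image fun i => φ (f i)) (by
      rw [IsLocalRing.ringJacobson_eq_maximalIdeal]
      intro z hz
      obtain ⟨i, -, rfl⟩ := Finset.mem_image.1 hz
      exact hJm (hJspan ▸ Ideal.subset_span ⟨i, rfl⟩))
    have hJ : J = Ideal.span ((Finset.univ.image fun i => φ (f i) : Finset R) : Set R) := by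
      rw [hJspan, Finset.coe_image, Finset.coe_univ, Set.image_univ]
    rw [← hJ] at h
    rw [he, hdimR] at h
    have h' : n + 1 ≤ e + (Finset.univ.image fun i => φ (f i)).card := by exact_mod_cast h
    have h'' := Finset.card_image_le (s := Finset.univ) (f := fun i => φ (f i))
    rw [Finset.card_univ, Fintype.card_fin] at h''
    omega
  have hle : e + r ≤ n + 1 := by
    obtain ⟨p, hp, hpd⟩ := exists_minimalPrime_dim J fun h =>
      (maximalIdeal.isMaximal R).ne_top (top_le_iff.1 (h ▸ hJm))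
    haveI := hp.1.1
    have hh : (r : ℕ∞) ≤ p.height := by
      rw [← IsLocalization.height_under q.primeCompl p]
      exact hht.trans (Ideal.height_mono (Ideal.map_le_iff_le_comap.1 hp.1.2))
    have h2 := CMFlat.ringKrullDim_quotient_add_le p
    have h3 : (e : WithBot ℕ∞) + (r : WithBot ℕ∞) ≤ ((n + 1 : ℕ) : WithBot ℕ∞) := by
      rw [← he, ← hdimR]
      refine le_trans ?_ h2
      gcongr
      exact_mod_cast hh
    exact_mod_cast h3
  have her : e + r = n + 1 := le_antisymm hle hge
  haveI hcm : LocCoh.IsCohenMacaulayLocalRing (R ⧸ J) :=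
    cm_quotient_of_dim (fun i => φ (f i)) J hJspan hJm he (by rw [hdimR, add_comm r e, her])
  obtain ⟨eq⟩ := nonempty_localQuot I v
  haveI hcmv : LocCoh.IsCohenMacaulayLocalRing (Localization.AtPrime v) :=
    CMChart.isCohenMacaulayLocalRing_of_ringEquiv (R := R ⧸ J) (R' := Localization.AtPrime v) eq.symm hcm
  have hdimv : ringKrullDim (Localization.AtPrime v) = (e : WithBot ℕ∞) :=
    (ringKrullDim_eq_of_ringEquiv eq).trans he
  exact ⟨hcmv, e, hdimv, her⟩

/-- The vertex of a normal complete intersection cone of dimension at least two is a normal point. -/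
theorem vertex_normal (hrn : r < n) (hfv : ∀ i, f i ∈ vtx k n)
    {I : Ideal (MvPolynomial (Fin (n + 1)) k)} (hI : I = Ideal.span (Set.range f)) (hht : (r : ℕ∞) ≤ I.height)
    (hnorm : ∀ (Q : Ideal (MvPolynomial (Fin (n + 1)) k ⧸ I)) [Q.IsPrime], (∃ j, Ideal.Quotient.mk I (X j) ∉ Q) →
      IsDomain (Localization.AtPrime Q) ∧ IsIntegrallyClosed (Localization.AtPrime Q))
    (v : Ideal (MvPolynomial (Fin (n + 1)) k ⧸ I)) [v.IsPrime]
    (hv : v.comap (Ideal.Quotient.mk I) = vtx k n) :
    IsDomain (Localization.AtPrime v) ∧ IsIntegrallyClosed (Localization.AtPrime v) := by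
  obtain ⟨hcmv, e, hdimv, her⟩ := vertex_cm hfv hI hht v hv
  refine Catenary.normal_of_depth_two (A := Localization.AtPrime v) ?_ fun Q hQ => ?_
  · have h := hcmv.supportDim_eq_depth
    rw [Module.supportDim_self_eq_ringKrullDim, hdimv] at h
    have h' : (e : ℕ∞) = LocCoh.depth (Localization.AtPrime v) (Localization.AtPrime v) := by exact_mod_cast h
    rw [← h', show (2 : ℕ∞) = ((2 : ℕ) : ℕ∞) from rfl, Nat.cast_le]
    omega
  · let p := Q.asIdeal.comap (algebraMap (MvPolynomial (Fin (n + 1)) k ⧸ I) (Localization.AtPrime v))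
    haveI : p.IsPrime := Ideal.comap_isPrime _ _
    have hpv : ∃ j, Ideal.Quotient.mk I (X j) ∉ p := by
      by_contra hh
      push Not at hh
      refine hQ (IsLocalRing.eq_maximalIdeal ?_)
      have hvp : v ≤ p := by
        intro z hz
        obtain ⟨g, rfl⟩ := Ideal.Quotient.mk_surjective z
        exact vtx_le (q := p.comap (Ideal.Quotient.mk I)) hh (hv ▸ hz)
      refine ⟨⟨Q.isPrime.ne_top, fun K hK => ?_⟩⟩
      by_contra hKne
      have : maximalIdeal (Localization.AtPrime v) ≤ Q.asIdeal := by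
        rw [← IsLocalization.AtPrime.map_eq_maximalIdeal v]
        exact Ideal.map_le_iff_le_comap.2 hvp
      exact hK.not_ge ((le_maximalIdeal hKne).trans this)
    exact normal_localization v Q.asIdeal (hnorm p hpv).1 (hnorm p hpv).2

attribute [local instance] MvPolynomial.gradedAlgebra in
theorem normal_cone (hrn : r < n) (d : Fin r → ℕ) (hd : ∀ i, 0 < d i)
    (hf : ∀ i, (f i).IsHomogeneous (d i)) (hht : (r : ℕ∞) ≤ (Ideal.span (Set.range f)).height)
    (hnorm : ∀ (Q : Ideal (MvPolynomial (Fin (n + 1)) k ⧸ Ideal.span (Set.range f))) [Q.IsPrime],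
      (∃ j, Ideal.Quotient.mk (Ideal.span (Set.range f)) (X j) ∉ Q) →
        IsDomain (Localization.AtPrime Q) ∧ IsIntegrallyClosed (Localization.AtPrime Q)) :
    IsDomain (MvPolynomial (Fin (n + 1)) k ⧸ Ideal.span (Set.range f)) ∧
      IsIntegrallyClosed (MvPolynomial (Fin (n + 1)) k ⧸ Ideal.span (Set.range f)) := by
  set I := Ideal.span (Set.range f)
  have hfv : ∀ i, f i ∈ vtx k n := fun i => by
    rw [RingHom.mem_ker, constantCoeff_eq]
    exact (hf i).coeff_eq_zero (by simpa using (hd i).ne)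
  have hIv : I ≤ vtx k n := Ideal.span_le.2 (by rintro _ ⟨i, rfl⟩; exact hfv i)
  let A := MvPolynomial (Fin (n + 1)) k ⧸ I
  let v : Ideal A := (vtx k n).map (Ideal.Quotient.mk I)
  haveI hvm : v.IsMaximal := Ideal.IsMaximal.map_of_surjective_of_ker_le Ideal.Quotient.mk_surjective
    (by rw [Ideal.mk_ker]; exact hIv)
  have hv : v.comap (Ideal.Quotient.mk I) = vtx k n := by
    rw [Ideal.comap_map_of_surjective _ Ideal.Quotient.mk_surjective, ← RingHom.ker_eq_comap_bot, Ideal.mk_ker,
      sup_eq_left.2 hIv]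
  obtain ⟨hvd, hvc⟩ := vertex_normal hrn hfv (I := I) rfl hht hnorm v hv
  haveI : IsReduced A := by
    refine isReduced_ofLocalizationMaximal A fun Q hQ => ?_
    by_cases hj : ∃ j, Ideal.Quotient.mk I (X j) ∉ Q
    · haveI := (hnorm Q hj).1
      exact inferInstanceAs (IsReduced (Localization.AtPrime Q))
    · push Not at hj
      have hvQ : v ≤ Q := Ideal.map_le_iff_le_comap.2 (vtx_le hj)
      obtain rfl : v = Q := hvm.eq_of_le hQ.ne_top hvQ
      infer_instance
  have hmin : ∀ P ∈ minimalPrimes A, P ≤ v := by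
    intro P hP
    haveI := hP.1.1
    let P' := P.comap (Ideal.Quotient.mk I)
    haveI : P'.IsPrime := Ideal.comap_isPrime _ _
    let c := (Ideal.homogeneousCore (homogeneousSubmodule (Fin (n + 1)) k) P').toIdeal
    haveI hc : c.IsPrime := (inferInstance : P'.IsPrime).homogeneousCore
    have hIc : I ≤ c := Ideal.span_le.2 (by
      rintro _ ⟨i, rfl⟩
      refine Ideal.mem_homogeneousCore_of_homogeneous_of_mem ⟨d i, hf i⟩ ?_
      show Ideal.Quotient.mk I (f i) ∈ P
      rw [Ideal.Quotient.eq_zero_iff_mem.2 (show f i ∈ I from Ideal.subset_span ⟨i, rfl⟩)]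
      exact zero_mem _)
    have hcv : c ≤ vtx k n := by
      intro g hg
      rw [RingHom.mem_ker]
      by_contra hne
      have h0 : homogeneousComponent 0 g ∈ c := by
        have := (Ideal.homogeneousCore (homogeneousSubmodule (Fin (n + 1)) k) P').isHomogeneous 0 hg
        erw [MvPolynomial.decomposition.decompose'_apply] at this
        exact this
      rw [homogeneousComponent_zero] at h0
      exact hc.ne_top (Ideal.eq_top_of_isUnit_mem _ h0
        ((isUnit_iff_ne_zero.2 (by simpa [constantCoeff_eq] using hne)).map C))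
    haveI : (c.map (Ideal.Quotient.mk I)).IsPrime :=
      Ideal.map_isPrime_of_surjective Ideal.Quotient.mk_surjective (by rw [Ideal.mk_ker]; exact hIc)
    have hle : c.map (Ideal.Quotient.mk I) ≤ P := Ideal.map_le_iff_le_comap.2 (Ideal.toIdeal_homogeneousCore_le _ _)
    exact (hP.2 ⟨inferInstance, bot_le⟩ hle).trans (Ideal.map_mono hcv)
  haveI hA : IsDomain A := by
    refine Function.Injective.isDomain (algebraMap A (Localization.AtPrime v)) ((injective_iff_map_eq_zero _).2 fun a ha => ?_)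
    obtain ⟨s, hs⟩ := (IsLocalization.map_eq_zero_iff v.primeCompl _ a).1 ha
    have : a ∈ sInf (minimalPrimes A) := Submodule.mem_sInf.2 fun P hP => by
      haveI := hP.1.1
      exact ((inferInstance : Ideal.IsPrime P).mem_or_mem (hs ▸ P.zero_mem)).resolve_left fun h => s.2 (hmin P hP h)
    rwa [show minimalPrimes A = (⊥ : Ideal A).minimalPrimes from rfl, Ideal.sInf_minimalPrimes,
      show (⊥ : Ideal A).radical = ⊥ from nilradical_eq_zero A, Ideal.mem_bot] at this
  refine ⟨hA, IsIntegrallyClosed.of_localization_maximal fun Q hQ0 hQ => ?_⟩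
  by_cases hj : ∃ j, Ideal.Quotient.mk I (X j) ∉ Q
  · exact (hnorm Q hj).2
  · push Not at hj
    obtain rfl : v = Q := hvm.eq_of_le hQ.ne_top (Ideal.map_le_iff_le_comap.2 (vtx_le hj))
    exact hvc

theorem isDomain_cone [IsAlgClosed k] (hrn : r < n) (hns : Nonsing f) (d : Fin r → ℕ) (hd : ∀ i, 0 < d i)
    (hf : ∀ i, (f i).IsHomogeneous (d i)) :
    IsDomain (MvPolynomial (Fin (n + 1)) k ⧸ Ideal.span (Set.range f)) := by
  refine (normal_cone hrn d hd hf ?_ fun Q _ hj => ?_).1
  · rw [Ideal.height_eq_inf_minimalPrimes]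
    exact le_iInf₂ fun P hP => le_height_of_minimal hrn.le hns hP
  · haveI := regular_off_vertex hns Q hj
    exact ⟨RegLoc.isDomain (Localization.AtPrime Q), RegLoc.isIntegrallyClosed (A := Localization.AtPrime Q)⟩

/-- A complete intersection is saturated. -/
theorem mem_of_forall_pow_mul_mem (hrn : r ≤ n) (d : Fin r → ℕ) (hd : ∀ i, 0 < d i)
    (hf : ∀ i, (f i).IsHomogeneous (d i)) (hht : (r : ℕ∞) ≤ (Ideal.span (Set.range f)).height)
    (g : MvPolynomial (Fin (n + 1)) k) (hg : ∀ i, ∃ m : ℕ, X i ^ m * g ∈ Ideal.span (Set.range f)) :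
    g ∈ Ideal.span (Set.range f) := by
  set I := Ideal.span (Set.range f)
  have hfv : ∀ i, f i ∈ vtx k n := fun i => by
    rw [RingHom.mem_ker, constantCoeff_eq]
    exact (hf i).coeff_eq_zero (by simpa using (hd i).ne)
  have hIv : I ≤ vtx k n := Ideal.span_le.2 (by rintro _ ⟨i, rfl⟩; exact hfv i)
  let A := MvPolynomial (Fin (n + 1)) k ⧸ I
  let v : Ideal A := (vtx k n).map (Ideal.Quotient.mk I)
  haveI hvm : v.IsMaximal := Ideal.IsMaximal.map_of_surjective_of_ker_le Ideal.Quotient.mk_surjective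
    (by rw [Ideal.mk_ker]; exact hIv)
  have hv : v.comap (Ideal.Quotient.mk I) = vtx k n := by
    rw [Ideal.comap_map_of_surjective _ Ideal.Quotient.mk_surjective, ← RingHom.ker_eq_comap_bot, Ideal.mk_ker,
      sup_eq_left.2 hIv]
  obtain ⟨hcmv, e, hdimv, her⟩ := vertex_cm hfv (I := I) rfl hht v hv
  rw [← Ideal.Quotient.eq_zero_iff_mem]
  refine eq_zero_of_localization (Ideal.Quotient.mk I g) fun Q hQ => ?_
  have hkill : ∀ i, ∃ m : ℕ, Ideal.Quotient.mk I (X i) ^ m * Ideal.Quotient.mk I g = 0 := fun i => by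
    obtain ⟨m, hm⟩ := hg i
    exact ⟨m, by rw [← map_pow, ← map_mul, Ideal.Quotient.eq_zero_iff_mem.2 hm]⟩
  by_cases hj : ∃ j, Ideal.Quotient.mk I (X j) ∉ Q
  · obtain ⟨j, hj⟩ := hj
    obtain ⟨m, hm⟩ := hkill j
    exact (IsLocalization.map_eq_zero_iff Q.primeCompl _ _).2
      ⟨⟨_, fun h => hj (hQ.isPrime.mem_of_pow_mem m h)⟩, hm⟩
  · push Not at hj
    obtain rfl : v = Q := hvm.eq_of_le hQ.ne_top (Ideal.map_le_iff_le_comap.2 (vtx_le hj))
    refine eq_zero_of_forall_pow (R := Localization.AtPrime v) (n := e) (by omega) hdimv (fun i => algebraMap A _ (Ideal.Quotient.mk I (X i))) ?_ _ fun i => ?_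
    · rw [← IsLocalization.AtPrime.map_eq_maximalIdeal v, Ideal.map_le_iff_le_comap, Ideal.map_le_iff_le_comap]
      refine fun p hp => vtx_le (q := (((Ideal.span (Set.range fun i => algebraMap A (Localization.AtPrime v)
        (Ideal.Quotient.mk I (X i)))).radical).comap (algebraMap A _)).comap (Ideal.Quotient.mk I)) (fun j => ?_) hp
      exact Ideal.le_radical (Ideal.subset_span ⟨j, rfl⟩)
    · obtain ⟨m, hm⟩ := hkill i
      exact ⟨m, by rw [← map_pow, ← map_mul, hm, map_zero]⟩

/-- Existence of nonsingular complete intersections. -/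
theorem exists_nonsingular_ci [IsAlgClosed k] (hrn : r < n) (d : Fin r → ℕ) (hd : ∀ i, 0 < d i) :
    ∃ f : Fin r → MvPolynomial (Fin (n + 1)) k, (∀ i, (f i).IsHomogeneous (d i)) ∧
      (∀ i, Nonsing ![f i]) ∧ Nonsing f := by
  obtain ⟨g, hg0, hg⟩ := exists_bound (k := k) d hd hrn.le
  choose g1 hg1 hg1' using fun i : Fin r => exists_bound (k := k) (n := n) ![d i] (fun j => by
    fin_cases j; exact hd i) (by omega)
  let emb : ∀ i : Fin r, Coef n ![d i] → Coef n d := fun i x =>
    ⟨i, ⟨x.2.1, by have h := x.2.2; obtain ⟨j, a⟩ := x; fin_cases j; exact h⟩⟩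
  have hemb : ∀ i, Function.Injective (emb i) := by
    rintro i ⟨j, a⟩ ⟨j', a'⟩ h
    fin_cases j; fin_cases j'
    simp only [emb, Sigma.mk.injEq, heq_eq_eq, true_and, Subtype.mk.injEq] at h
    exact congrArg (Sigma.mk _) (Subtype.ext h)
  let G := g * ∏ i, rename (emb i) (g1 i)
  have hG : G ≠ 0 := mul_ne_zero hg0 (Finset.prod_ne_zero_iff.2 fun i _ h =>
    hg1 i (rename_injective _ (hemb i) (h.trans (map_zero _).symm)))
  obtain ⟨c, hc⟩ : ∃ c : Coef n d → k, eval c G ≠ 0 := by
    by_contra h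
    push Not at h
    exact hG (MvPolynomial.funext fun c => by rw [h c, map_zero])
  rw [map_mul, map_prod, mul_ne_zero_iff, Finset.prod_ne_zero_iff] at hc
  refine ⟨form n d c, form_isHomogeneous d c, fun i => ?_, hg c hc.1⟩
  have h1 := hc.2 i (Finset.mem_univ _)
  rw [eval_rename] at h1
  have h2 := hg1' i (c ∘ emb i) h1
  convert h2 using 1
  funext j
  fin_cases j
  rfl

end Groth.Agent.CIBertini
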